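import Cfsg.Agent.SB.SporF.Co3.Chk0

/-! S5765, row of Co3: assembly (generated by notes/SB/spor_tools, helper63) -/

set_option autoImplicit false

namespace Cfsg.Agent.SB.SporF.Co3

open Cfsg.Agent.SB Cfsg.Agent.SB.Spor

open Cfsg

set_option maxRecDepth 100000
set_option linter.unusedSectionVars false

variable {G : Type*} [Group G]

theorem tab (M : PM G 276) : M.Tab lk mk ver := perm_tab M rfl (by norm_num) (by norm_num)

/-- the tables `E0` describe elements of `G`, and the order of `G` is bounded -/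
structure Hyp (M : PM G 276) : Prop where
  h0 : AllIn M lk E0
  hN : Nat.card G ≤ 495766656000

variable [Finite G] {M : PM G 276} (H : Hyp M)
include H

theorem s0 : AllIn M lk sl0 :=
  slp_spec (tab M) d1 E0 H.h0 c1

theorem i8 : M.In lk t8 :=
  s0 H _ (.head _)

theorem i9 : M.In lk t9 :=
  s0 H _ (.tail _ (.head _))

theorem i10 : M.In lk t10 :=
  s0 H _ (.tail _ (.tail _ (.head _)))

theorem i11 : M.In lk t11 :=
  s0 H _ (.tail _ (.tail _ (.tail _ (.head _))))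

theorem i12 : M.In lk t12 :=
  s0 H _ (.tail _ (.tail _ (.tail _ (.tail _ (.head _)))))

theorem i13 : M.In lk t13 :=
  s0 H _ (.tail _ (.tail _ (.tail _ (.tail _ (.tail _ (.head _))))))

theorem i14 : M.In lk t14 :=
  s0 H _ (.tail _ (.tail _ (.tail _ (.tail _ (.tail _ (.tail _ (.head _)))))))

theorem i15 : M.In lk t15 :=
  s0 H _ (.tail _ (.tail _ (.tail _ (.tail _ (.tail _ (.tail _ (.tail _ (.head _))))))))

theorem i16 : M.In lk t16 :=
  s0 H _ (.tail _ (.tail _ (.tail _ (.tail _ (.tail _ (.tail _ (.tail _ (.tail _ (.head _)))))))))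

theorem i17 : M.In lk t17 :=
  s0 H _ (.tail _ (.tail _ (.tail _ (.tail _ (.tail _ (.tail _ (.tail _ (.tail _ (.tail _ (.head _))))))))))

theorem i18 : M.In lk t18 :=
  s0 H _ (.tail _ (.tail _ (.tail _ (.tail _ (.tail _ (.tail _ (.tail _ (.tail _ (.tail _ (.tail _ (.head _)))))))))))

theorem i19 : M.In lk t19 :=
  s0 H _ (.tail _ (.tail _ (.tail _ (.tail _ (.tail _ (.tail _ (.tail _ (.tail _ (.tail _ (.tail _ (.tail _ (.head _))))))))))))

theorem i20 : M.In lk t20 :=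
  s0 H _ (.tail _ (.tail _ (.tail _ (.tail _ (.tail _ (.tail _ (.tail _ (.tail _ (.tail _ (.tail _ (.tail _ (.tail _ (.head _)))))))))))))

theorem i21 : M.In lk t21 :=
  s0 H _ (.tail _ (.tail _ (.tail _ (.tail _ (.tail _ (.tail _ (.tail _ (.tail _ (.tail _ (.tail _ (.tail _ (.tail _ (.tail _ (.head _))))))))))))))

theorem i22 : M.In lk t22 :=
  s0 H _ (.tail _ (.tail _ (.tail _ (.tail _ (.tail _ (.tail _ (.tail _ (.tail _ (.tail _ (.tail _ (.tail _ (.tail _ (.tail _ (.tail _ (.head _)))))))))))))))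

theorem i23 : M.In lk t23 :=
  s0 H _ (.tail _ (.tail _ (.tail _ (.tail _ (.tail _ (.tail _ (.tail _ (.tail _ (.tail _ (.tail _ (.tail _ (.tail _ (.tail _ (.tail _ (.tail _ (.head _))))))))))))))))

theorem i24 : M.In lk t24 :=
  s0 H _ (.tail _ (.tail _ (.tail _ (.tail _ (.tail _ (.tail _ (.tail _ (.tail _ (.tail _ (.tail _ (.tail _ (.tail _ (.tail _ (.tail _ (.tail _ (.tail _ (.head _)))))))))))))))))

theorem i25 : M.In lk t25 :=
  s0 H _ (.tail _ (.tail _ (.tail _ (.tail _ (.tail _ (.tail _ (.tail _ (.tail _ (.tail _ (.tail _ (.tail _ (.tail _ (.tail _ (.tail _ (.tail _ (.tail _ (.tail _ (.head _))))))))))))))))))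

theorem i26 : M.In lk t26 :=
  s0 H _ (.tail _ (.tail _ (.tail _ (.tail _ (.tail _ (.tail _ (.tail _ (.tail _ (.tail _ (.tail _ (.tail _ (.tail _ (.tail _ (.tail _ (.tail _ (.tail _ (.tail _ (.tail _ (.head _)))))))))))))))))))

theorem i27 : M.In lk t27 :=
  s0 H _ (.tail _ (.tail _ (.tail _ (.tail _ (.tail _ (.tail _ (.tail _ (.tail _ (.tail _ (.tail _ (.tail _ (.tail _ (.tail _ (.tail _ (.tail _ (.tail _ (.tail _ (.tail _ (.tail _ (.head _))))))))))))))))))))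

theorem i28 : M.In lk t28 :=
  s0 H _ (.tail _ (.tail _ (.tail _ (.tail _ (.tail _ (.tail _ (.tail _ (.tail _ (.tail _ (.tail _ (.tail _ (.tail _ (.tail _ (.tail _ (.tail _ (.tail _ (.tail _ (.tail _ (.tail _ (.tail _ (.head _)))))))))))))))))))))

theorem i29 : M.In lk t29 :=
  s0 H _ (.tail _ (.tail _ (.tail _ (.tail _ (.tail _ (.tail _ (.tail _ (.tail _ (.tail _ (.tail _ (.tail _ (.tail _ (.tail _ (.tail _ (.tail _ (.tail _ (.tail _ (.tail _ (.tail _ (.tail _ (.tail _ (.head _))))))))))))))))))))))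

theorem i30 : M.In lk t30 :=
  s0 H _ (.tail _ (.tail _ (.tail _ (.tail _ (.tail _ (.tail _ (.tail _ (.tail _ (.tail _ (.tail _ (.tail _ (.tail _ (.tail _ (.tail _ (.tail _ (.tail _ (.tail _ (.tail _ (.tail _ (.tail _ (.tail _ (.tail _ (.head _)))))))))))))))))))))))

theorem i31 : M.In lk t31 :=
  s0 H _ (.tail _ (.tail _ (.tail _ (.tail _ (.tail _ (.tail _ (.tail _ (.tail _ (.tail _ (.tail _ (.tail _ (.tail _ (.tail _ (.tail _ (.tail _ (.tail _ (.tail _ (.tail _ (.tail _ (.tail _ (.tail _ (.tail _ (.tail _ (.head _))))))))))))))))))))))))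

theorem i32 : M.In lk t32 :=
  s0 H _ (.tail _ (.tail _ (.tail _ (.tail _ (.tail _ (.tail _ (.tail _ (.tail _ (.tail _ (.tail _ (.tail _ (.tail _ (.tail _ (.tail _ (.tail _ (.tail _ (.tail _ (.tail _ (.tail _ (.tail _ (.tail _ (.tail _ (.tail _ (.tail _ (.head _)))))))))))))))))))))))))

theorem i33 : M.In lk t33 :=
  s0 H _ (.tail _ (.tail _ (.tail _ (.tail _ (.tail _ (.tail _ (.tail _ (.tail _ (.tail _ (.tail _ (.tail _ (.tail _ (.tail _ (.tail _ (.tail _ (.tail _ (.tail _ (.tail _ (.tail _ (.tail _ (.tail _ (.tail _ (.tail _ (.tail _ (.tail _ (.head _))))))))))))))))))))))))))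

theorem i34 : M.In lk t34 :=
  s0 H _ (.tail _ (.tail _ (.tail _ (.tail _ (.tail _ (.tail _ (.tail _ (.tail _ (.tail _ (.tail _ (.tail _ (.tail _ (.tail _ (.tail _ (.tail _ (.tail _ (.tail _ (.tail _ (.tail _ (.tail _ (.tail _ (.tail _ (.tail _ (.tail _ (.tail _ (.tail _ (.head _)))))))))))))))))))))))))))

theorem i35 : M.In lk t35 :=
  s0 H _ (.tail _ (.tail _ (.tail _ (.tail _ (.tail _ (.tail _ (.tail _ (.tail _ (.tail _ (.tail _ (.tail _ (.tail _ (.tail _ (.tail _ (.tail _ (.tail _ (.tail _ (.tail _ (.tail _ (.tail _ (.tail _ (.tail _ (.tail _ (.tail _ (.tail _ (.tail _ (.tail _ (.head _))))))))))))))))))))))))))))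

theorem i36 : M.In lk t36 :=
  s0 H _ (.tail _ (.tail _ (.tail _ (.tail _ (.tail _ (.tail _ (.tail _ (.tail _ (.tail _ (.tail _ (.tail _ (.tail _ (.tail _ (.tail _ (.tail _ (.tail _ (.tail _ (.tail _ (.tail _ (.tail _ (.tail _ (.tail _ (.tail _ (.tail _ (.tail _ (.tail _ (.tail _ (.tail _ (.head _)))))))))))))))))))))))))))))

theorem i37 : M.In lk t37 :=
  s0 H _ (.tail _ (.tail _ (.tail _ (.tail _ (.tail _ (.tail _ (.tail _ (.tail _ (.tail _ (.tail _ (.tail _ (.tail _ (.tail _ (.tail _ (.tail _ (.tail _ (.tail _ (.tail _ (.tail _ (.tail _ (.tail _ (.tail _ (.tail _ (.tail _ (.tail _ (.tail _ (.tail _ (.tail _ (.tail _ (.head _))))))))))))))))))))))))))))))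

theorem i38 : M.In lk t38 :=
  s0 H _ (.tail _ (.tail _ (.tail _ (.tail _ (.tail _ (.tail _ (.tail _ (.tail _ (.tail _ (.tail _ (.tail _ (.tail _ (.tail _ (.tail _ (.tail _ (.tail _ (.tail _ (.tail _ (.tail _ (.tail _ (.tail _ (.tail _ (.tail _ (.tail _ (.tail _ (.tail _ (.tail _ (.tail _ (.tail _ (.tail _ (.head _)))))))))))))))))))))))))))))))

theorem i39 : M.In lk t39 :=
  s0 H _ (.tail _ (.tail _ (.tail _ (.tail _ (.tail _ (.tail _ (.tail _ (.tail _ (.tail _ (.tail _ (.tail _ (.tail _ (.tail _ (.tail _ (.tail _ (.tail _ (.tail _ (.tail _ (.tail _ (.tail _ (.tail _ (.tail _ (.tail _ (.tail _ (.tail _ (.tail _ (.tail _ (.tail _ (.tail _ (.tail _ (.tail _ (.head _))))))))))))))))))))))))))))))))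

theorem hE : AllIn M lk E :=
  (AllIn.cons (i8 H) (AllIn.cons (i9 H) (AllIn.cons (i10 H) (AllIn.cons (i11 H) (AllIn.cons (i12 H) (AllIn.cons (i13 H) (AllIn.cons (i14 H) (AllIn.cons (i15 H) (AllIn.cons (i16 H) (AllIn.cons (i17 H) (AllIn.cons (i18 H) (AllIn.cons (i19 H) (AllIn.cons (i20 H) (AllIn.cons (i21 H) (AllIn.cons (i22 H) (AllIn.cons (i23 H) (AllIn.cons (i24 H) (AllIn.cons (i25 H) (AllIn.cons (i26 H) (AllIn.cons (i27 H) (AllIn.cons (i28 H) (AllIn.cons (i29 H) (AllIn.cons (i30 H) (AllIn.cons (i31 H) (AllIn.cons (i32 H) (AllIn.cons (i33 H) (AllIn.cons (i34 H) (AllIn.cons (i35 H) (AllIn.cons (i36 H) (AllIn.cons (i37 H) (AllIn.cons (i38 H) (AllIn.cons (i39 H) AllIn.nil))))))))))))))))))))))))))))))))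

theorem hB0 : M.Base B ∧ Nat.card G = 495766656000 :=
  base_of_chk (hE H) H.hN (B := B) rfl c2

theorem hB : M.Base B :=
  (hB0 H).1

theorem u0 : AllIn M lk ul0 :=
  slp_spec (tab M) d3 E (hE H) c3

theorem i40 : M.In lk t40 :=
  u0 H _ (.head _)

theorem i41 : M.In lk t41 :=
  u0 H _ (.tail _ (.head _))

theorem i42 : M.In lk t42 :=
  u0 H _ (.tail _ (.tail _ (.head _)))

theorem i43 : M.In lk t43 :=
  u0 H _ (.tail _ (.tail _ (.tail _ (.head _))))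

theorem i44 : M.In lk t44 :=
  u0 H _ (.tail _ (.tail _ (.tail _ (.tail _ (.head _)))))

theorem i45 : M.In lk t45 :=
  u0 H _ (.tail _ (.tail _ (.tail _ (.tail _ (.tail _ (.head _))))))

theorem i46 : M.In lk t46 :=
  u0 H _ (.tail _ (.tail _ (.tail _ (.tail _ (.tail _ (.tail _ (.head _)))))))

theorem i47 : M.In lk t47 :=
  u0 H _ (.tail _ (.tail _ (.tail _ (.tail _ (.tail _ (.tail _ (.tail _ (.head _))))))))

theorem i48 : M.In lk t48 :=
  u0 H _ (.tail _ (.tail _ (.tail _ (.tail _ (.tail _ (.tail _ (.tail _ (.tail _ (.head _)))))))))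

theorem i49 : M.In lk t49 :=
  u0 H _ (.tail _ (.tail _ (.tail _ (.tail _ (.tail _ (.tail _ (.tail _ (.tail _ (.tail _ (.head _))))))))))

theorem i50 : M.In lk t50 :=
  u0 H _ (.tail _ (.tail _ (.tail _ (.tail _ (.tail _ (.tail _ (.tail _ (.tail _ (.tail _ (.tail _ (.head _)))))))))))

theorem i51 : M.In lk t51 :=
  u0 H _ (.tail _ (.tail _ (.tail _ (.tail _ (.tail _ (.tail _ (.tail _ (.tail _ (.tail _ (.tail _ (.tail _ (.head _))))))))))))

theorem i52 : M.In lk t52 :=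
  u0 H _ (.tail _ (.tail _ (.tail _ (.tail _ (.tail _ (.tail _ (.tail _ (.tail _ (.tail _ (.tail _ (.tail _ (.tail _ (.head _)))))))))))))

theorem i53 : M.In lk t53 :=
  u0 H _ (.tail _ (.tail _ (.tail _ (.tail _ (.tail _ (.tail _ (.tail _ (.tail _ (.tail _ (.tail _ (.tail _ (.tail _ (.tail _ (.head _))))))))))))))

theorem i54 : M.In lk t54 :=
  u0 H _ (.tail _ (.tail _ (.tail _ (.tail _ (.tail _ (.tail _ (.tail _ (.tail _ (.tail _ (.tail _ (.tail _ (.tail _ (.tail _ (.tail _ (.head _)))))))))))))))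

theorem i55 : M.In lk t55 :=
  u0 H _ (.tail _ (.tail _ (.tail _ (.tail _ (.tail _ (.tail _ (.tail _ (.tail _ (.tail _ (.tail _ (.tail _ (.tail _ (.tail _ (.tail _ (.tail _ (.head _))))))))))))))))

theorem i56 : M.In lk t56 :=
  u0 H _ (.tail _ (.tail _ (.tail _ (.tail _ (.tail _ (.tail _ (.tail _ (.tail _ (.tail _ (.tail _ (.tail _ (.tail _ (.tail _ (.tail _ (.tail _ (.tail _ (.head _)))))))))))))))))

theorem i57 : M.In lk t57 :=
  u0 H _ (.tail _ (.tail _ (.tail _ (.tail _ (.tail _ (.tail _ (.tail _ (.tail _ (.tail _ (.tail _ (.tail _ (.tail _ (.tail _ (.tail _ (.tail _ (.tail _ (.tail _ (.head _))))))))))))))))))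

theorem i58 : M.In lk t58 :=
  u0 H _ (.tail _ (.tail _ (.tail _ (.tail _ (.tail _ (.tail _ (.tail _ (.tail _ (.tail _ (.tail _ (.tail _ (.tail _ (.tail _ (.tail _ (.tail _ (.tail _ (.tail _ (.tail _ (.head _)))))))))))))))))))

theorem i59 : M.In lk t59 :=
  u0 H _ (.tail _ (.tail _ (.tail _ (.tail _ (.tail _ (.tail _ (.tail _ (.tail _ (.tail _ (.tail _ (.tail _ (.tail _ (.tail _ (.tail _ (.tail _ (.tail _ (.tail _ (.tail _ (.tail _ (.head _))))))))))))))))))))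

theorem i60 : M.In lk t60 :=
  u0 H _ (.tail _ (.tail _ (.tail _ (.tail _ (.tail _ (.tail _ (.tail _ (.tail _ (.tail _ (.tail _ (.tail _ (.tail _ (.tail _ (.tail _ (.tail _ (.tail _ (.tail _ (.tail _ (.tail _ (.tail _ (.head _)))))))))))))))))))))

theorem i61 : M.In lk t61 :=
  u0 H _ (.tail _ (.tail _ (.tail _ (.tail _ (.tail _ (.tail _ (.tail _ (.tail _ (.tail _ (.tail _ (.tail _ (.tail _ (.tail _ (.tail _ (.tail _ (.tail _ (.tail _ (.tail _ (.tail _ (.tail _ (.tail _ (.head _))))))))))))))))))))))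

theorem i62 : M.In lk t62 :=
  u0 H _ (.tail _ (.tail _ (.tail _ (.tail _ (.tail _ (.tail _ (.tail _ (.tail _ (.tail _ (.tail _ (.tail _ (.tail _ (.tail _ (.tail _ (.tail _ (.tail _ (.tail _ (.tail _ (.tail _ (.tail _ (.tail _ (.tail _ (.head _)))))))))))))))))))))))

theorem i63 : M.In lk t63 :=
  u0 H _ (.tail _ (.tail _ (.tail _ (.tail _ (.tail _ (.tail _ (.tail _ (.tail _ (.tail _ (.tail _ (.tail _ (.tail _ (.tail _ (.tail _ (.tail _ (.tail _ (.tail _ (.tail _ (.tail _ (.tail _ (.tail _ (.tail _ (.tail _ (.head _))))))))))))))))))))))))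

theorem i64 : M.In lk t64 :=
  u0 H _ (.tail _ (.tail _ (.tail _ (.tail _ (.tail _ (.tail _ (.tail _ (.tail _ (.tail _ (.tail _ (.tail _ (.tail _ (.tail _ (.tail _ (.tail _ (.tail _ (.tail _ (.tail _ (.tail _ (.tail _ (.tail _ (.tail _ (.tail _ (.tail _ (.head _)))))))))))))))))))))))))

theorem i65 : M.In lk t65 :=
  u0 H _ (.tail _ (.tail _ (.tail _ (.tail _ (.tail _ (.tail _ (.tail _ (.tail _ (.tail _ (.tail _ (.tail _ (.tail _ (.tail _ (.tail _ (.tail _ (.tail _ (.tail _ (.tail _ (.tail _ (.tail _ (.tail _ (.tail _ (.tail _ (.tail _ (.tail _ (.head _))))))))))))))))))))))))))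

theorem i66 : M.In lk t66 :=
  u0 H _ (.tail _ (.tail _ (.tail _ (.tail _ (.tail _ (.tail _ (.tail _ (.tail _ (.tail _ (.tail _ (.tail _ (.tail _ (.tail _ (.tail _ (.tail _ (.tail _ (.tail _ (.tail _ (.tail _ (.tail _ (.tail _ (.tail _ (.tail _ (.tail _ (.tail _ (.tail _ (.head _)))))))))))))))))))))))))))

theorem i67 : M.In lk t67 :=
  u0 H _ (.tail _ (.tail _ (.tail _ (.tail _ (.tail _ (.tail _ (.tail _ (.tail _ (.tail _ (.tail _ (.tail _ (.tail _ (.tail _ (.tail _ (.tail _ (.tail _ (.tail _ (.tail _ (.tail _ (.tail _ (.tail _ (.tail _ (.tail _ (.tail _ (.tail _ (.tail _ (.tail _ (.head _))))))))))))))))))))))))))))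

theorem i68 : M.In lk t68 :=
  u0 H _ (.tail _ (.tail _ (.tail _ (.tail _ (.tail _ (.tail _ (.tail _ (.tail _ (.tail _ (.tail _ (.tail _ (.tail _ (.tail _ (.tail _ (.tail _ (.tail _ (.tail _ (.tail _ (.tail _ (.tail _ (.tail _ (.tail _ (.tail _ (.tail _ (.tail _ (.tail _ (.tail _ (.tail _ (.head _)))))))))))))))))))))))))))))

theorem i69 : M.In lk t69 :=
  u0 H _ (.tail _ (.tail _ (.tail _ (.tail _ (.tail _ (.tail _ (.tail _ (.tail _ (.tail _ (.tail _ (.tail _ (.tail _ (.tail _ (.tail _ (.tail _ (.tail _ (.tail _ (.tail _ (.tail _ (.tail _ (.tail _ (.tail _ (.tail _ (.tail _ (.tail _ (.tail _ (.tail _ (.tail _ (.tail _ (.head _))))))))))))))))))))))))))))))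

theorem i70 : M.In lk t70 :=
  u0 H _ (.tail _ (.tail _ (.tail _ (.tail _ (.tail _ (.tail _ (.tail _ (.tail _ (.tail _ (.tail _ (.tail _ (.tail _ (.tail _ (.tail _ (.tail _ (.tail _ (.tail _ (.tail _ (.tail _ (.tail _ (.tail _ (.tail _ (.tail _ (.tail _ (.tail _ (.tail _ (.tail _ (.tail _ (.tail _ (.tail _ (.head _)))))))))))))))))))))))))))))))

theorem i71 : M.In lk t71 :=
  u0 H _ (.tail _ (.tail _ (.tail _ (.tail _ (.tail _ (.tail _ (.tail _ (.tail _ (.tail _ (.tail _ (.tail _ (.tail _ (.tail _ (.tail _ (.tail _ (.tail _ (.tail _ (.tail _ (.tail _ (.tail _ (.tail _ (.tail _ (.tail _ (.tail _ (.tail _ (.tail _ (.tail _ (.tail _ (.tail _ (.tail _ (.tail _ (.head _))))))))))))))))))))))))))))))))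

theorem i72 : M.In lk t72 :=
  u0 H _ (.tail _ (.tail _ (.tail _ (.tail _ (.tail _ (.tail _ (.tail _ (.tail _ (.tail _ (.tail _ (.tail _ (.tail _ (.tail _ (.tail _ (.tail _ (.tail _ (.tail _ (.tail _ (.tail _ (.tail _ (.tail _ (.tail _ (.tail _ (.tail _ (.tail _ (.tail _ (.tail _ (.tail _ (.tail _ (.tail _ (.tail _ (.tail _ (.head _)))))))))))))))))))))))))))))))))

theorem i73 : M.In lk t73 :=
  u0 H _ (.tail _ (.tail _ (.tail _ (.tail _ (.tail _ (.tail _ (.tail _ (.tail _ (.tail _ (.tail _ (.tail _ (.tail _ (.tail _ (.tail _ (.tail _ (.tail _ (.tail _ (.tail _ (.tail _ (.tail _ (.tail _ (.tail _ (.tail _ (.tail _ (.tail _ (.tail _ (.tail _ (.tail _ (.tail _ (.tail _ (.tail _ (.tail _ (.tail _ (.head _))))))))))))))))))))))))))))))))))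

theorem i74 : M.In lk t74 :=
  u0 H _ (.tail _ (.tail _ (.tail _ (.tail _ (.tail _ (.tail _ (.tail _ (.tail _ (.tail _ (.tail _ (.tail _ (.tail _ (.tail _ (.tail _ (.tail _ (.tail _ (.tail _ (.tail _ (.tail _ (.tail _ (.tail _ (.tail _ (.tail _ (.tail _ (.tail _ (.tail _ (.tail _ (.tail _ (.tail _ (.tail _ (.tail _ (.tail _ (.tail _ (.tail _ (.head _)))))))))))))))))))))))))))))))))))

theorem i75 : M.In lk t75 :=
  u0 H _ (.tail _ (.tail _ (.tail _ (.tail _ (.tail _ (.tail _ (.tail _ (.tail _ (.tail _ (.tail _ (.tail _ (.tail _ (.tail _ (.tail _ (.tail _ (.tail _ (.tail _ (.tail _ (.tail _ (.tail _ (.tail _ (.tail _ (.tail _ (.tail _ (.tail _ (.tail _ (.tail _ (.tail _ (.tail _ (.tail _ (.tail _ (.tail _ (.tail _ (.tail _ (.tail _ (.head _))))))))))))))))))))))))))))))))))))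

theorem i76 : M.In lk t76 :=
  u0 H _ (.tail _ (.tail _ (.tail _ (.tail _ (.tail _ (.tail _ (.tail _ (.tail _ (.tail _ (.tail _ (.tail _ (.tail _ (.tail _ (.tail _ (.tail _ (.tail _ (.tail _ (.tail _ (.tail _ (.tail _ (.tail _ (.tail _ (.tail _ (.tail _ (.tail _ (.tail _ (.tail _ (.tail _ (.tail _ (.tail _ (.tail _ (.tail _ (.tail _ (.tail _ (.tail _ (.tail _ (.head _)))))))))))))))))))))))))))))))))))))

theorem i77 : M.In lk t77 :=
  u0 H _ (.tail _ (.tail _ (.tail _ (.tail _ (.tail _ (.tail _ (.tail _ (.tail _ (.tail _ (.tail _ (.tail _ (.tail _ (.tail _ (.tail _ (.tail _ (.tail _ (.tail _ (.tail _ (.tail _ (.tail _ (.tail _ (.tail _ (.tail _ (.tail _ (.tail _ (.tail _ (.tail _ (.tail _ (.tail _ (.tail _ (.tail _ (.tail _ (.tail _ (.tail _ (.tail _ (.tail _ (.tail _ (.head _))))))))))))))))))))))))))))))))))))))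

theorem i78 : M.In lk t78 :=
  u0 H _ (.tail _ (.tail _ (.tail _ (.tail _ (.tail _ (.tail _ (.tail _ (.tail _ (.tail _ (.tail _ (.tail _ (.tail _ (.tail _ (.tail _ (.tail _ (.tail _ (.tail _ (.tail _ (.tail _ (.tail _ (.tail _ (.tail _ (.tail _ (.tail _ (.tail _ (.tail _ (.tail _ (.tail _ (.tail _ (.tail _ (.tail _ (.tail _ (.tail _ (.tail _ (.tail _ (.tail _ (.tail _ (.tail _ (.head _)))))))))))))))))))))))))))))))))))))))

theorem i79 : M.In lk t79 :=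
  u0 H _ (.tail _ (.tail _ (.tail _ (.tail _ (.tail _ (.tail _ (.tail _ (.tail _ (.tail _ (.tail _ (.tail _ (.tail _ (.tail _ (.tail _ (.tail _ (.tail _ (.tail _ (.tail _ (.tail _ (.tail _ (.tail _ (.tail _ (.tail _ (.tail _ (.tail _ (.tail _ (.tail _ (.tail _ (.tail _ (.tail _ (.tail _ (.tail _ (.tail _ (.tail _ (.tail _ (.tail _ (.tail _ (.tail _ (.tail _ (.head _))))))))))))))))))))))))))))))))))))))))

theorem i80 : M.In lk t80 :=
  u0 H _ (.tail _ (.tail _ (.tail _ (.tail _ (.tail _ (.tail _ (.tail _ (.tail _ (.tail _ (.tail _ (.tail _ (.tail _ (.tail _ (.tail _ (.tail _ (.tail _ (.tail _ (.tail _ (.tail _ (.tail _ (.tail _ (.tail _ (.tail _ (.tail _ (.tail _ (.tail _ (.tail _ (.tail _ (.tail _ (.tail _ (.tail _ (.tail _ (.tail _ (.tail _ (.tail _ (.tail _ (.tail _ (.tail _ (.tail _ (.tail _ (.head _)))))))))))))))))))))))))))))))))))))))))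

theorem i81 : M.In lk t81 :=
  u0 H _ (.tail _ (.tail _ (.tail _ (.tail _ (.tail _ (.tail _ (.tail _ (.tail _ (.tail _ (.tail _ (.tail _ (.tail _ (.tail _ (.tail _ (.tail _ (.tail _ (.tail _ (.tail _ (.tail _ (.tail _ (.tail _ (.tail _ (.tail _ (.tail _ (.tail _ (.tail _ (.tail _ (.tail _ (.tail _ (.tail _ (.tail _ (.tail _ (.tail _ (.tail _ (.tail _ (.tail _ (.tail _ (.tail _ (.tail _ (.tail _ (.tail _ (.head _))))))))))))))))))))))))))))))))))))))))))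

theorem i82 : M.In lk t82 :=
  u0 H _ (.tail _ (.tail _ (.tail _ (.tail _ (.tail _ (.tail _ (.tail _ (.tail _ (.tail _ (.tail _ (.tail _ (.tail _ (.tail _ (.tail _ (.tail _ (.tail _ (.tail _ (.tail _ (.tail _ (.tail _ (.tail _ (.tail _ (.tail _ (.tail _ (.tail _ (.tail _ (.tail _ (.tail _ (.tail _ (.tail _ (.tail _ (.tail _ (.tail _ (.tail _ (.tail _ (.tail _ (.tail _ (.tail _ (.tail _ (.tail _ (.tail _ (.tail _ (.head _)))))))))))))))))))))))))))))))))))))))))))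

theorem i83 : M.In lk t83 :=
  u0 H _ (.tail _ (.tail _ (.tail _ (.tail _ (.tail _ (.tail _ (.tail _ (.tail _ (.tail _ (.tail _ (.tail _ (.tail _ (.tail _ (.tail _ (.tail _ (.tail _ (.tail _ (.tail _ (.tail _ (.tail _ (.tail _ (.tail _ (.tail _ (.tail _ (.tail _ (.tail _ (.tail _ (.tail _ (.tail _ (.tail _ (.tail _ (.tail _ (.tail _ (.tail _ (.tail _ (.tail _ (.tail _ (.tail _ (.tail _ (.tail _ (.tail _ (.tail _ (.tail _ (.head _))))))))))))))))))))))))))))))))))))))))))))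

theorem i84 : M.In lk t84 :=
  u0 H _ (.tail _ (.tail _ (.tail _ (.tail _ (.tail _ (.tail _ (.tail _ (.tail _ (.tail _ (.tail _ (.tail _ (.tail _ (.tail _ (.tail _ (.tail _ (.tail _ (.tail _ (.tail _ (.tail _ (.tail _ (.tail _ (.tail _ (.tail _ (.tail _ (.tail _ (.tail _ (.tail _ (.tail _ (.tail _ (.tail _ (.tail _ (.tail _ (.tail _ (.tail _ (.tail _ (.tail _ (.tail _ (.tail _ (.tail _ (.tail _ (.tail _ (.tail _ (.tail _ (.tail _ (.head _)))))))))))))))))))))))))))))))))))))))))))))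

theorem i85 : M.In lk t85 :=
  u0 H _ (.tail _ (.tail _ (.tail _ (.tail _ (.tail _ (.tail _ (.tail _ (.tail _ (.tail _ (.tail _ (.tail _ (.tail _ (.tail _ (.tail _ (.tail _ (.tail _ (.tail _ (.tail _ (.tail _ (.tail _ (.tail _ (.tail _ (.tail _ (.tail _ (.tail _ (.tail _ (.tail _ (.tail _ (.tail _ (.tail _ (.tail _ (.tail _ (.tail _ (.tail _ (.tail _ (.tail _ (.tail _ (.tail _ (.tail _ (.tail _ (.tail _ (.tail _ (.tail _ (.tail _ (.tail _ (.head _))))))))))))))))))))))))))))))))))))))))))))))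

theorem i86 : M.In lk t86 :=
  u0 H _ (.tail _ (.tail _ (.tail _ (.tail _ (.tail _ (.tail _ (.tail _ (.tail _ (.tail _ (.tail _ (.tail _ (.tail _ (.tail _ (.tail _ (.tail _ (.tail _ (.tail _ (.tail _ (.tail _ (.tail _ (.tail _ (.tail _ (.tail _ (.tail _ (.tail _ (.tail _ (.tail _ (.tail _ (.tail _ (.tail _ (.tail _ (.tail _ (.tail _ (.tail _ (.tail _ (.tail _ (.tail _ (.tail _ (.tail _ (.tail _ (.tail _ (.tail _ (.tail _ (.tail _ (.tail _ (.tail _ (.head _)))))))))))))))))))))))))))))))))))))))))))))))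

theorem i87 : M.In lk t87 :=
  u0 H _ (.tail _ (.tail _ (.tail _ (.tail _ (.tail _ (.tail _ (.tail _ (.tail _ (.tail _ (.tail _ (.tail _ (.tail _ (.tail _ (.tail _ (.tail _ (.tail _ (.tail _ (.tail _ (.tail _ (.tail _ (.tail _ (.tail _ (.tail _ (.tail _ (.tail _ (.tail _ (.tail _ (.tail _ (.tail _ (.tail _ (.tail _ (.tail _ (.tail _ (.tail _ (.tail _ (.tail _ (.tail _ (.tail _ (.tail _ (.tail _ (.tail _ (.tail _ (.tail _ (.tail _ (.tail _ (.tail _ (.tail _ (.head _))))))))))))))))))))))))))))))))))))))))))))))))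

theorem i88 : M.In lk t88 :=
  u0 H _ (.tail _ (.tail _ (.tail _ (.tail _ (.tail _ (.tail _ (.tail _ (.tail _ (.tail _ (.tail _ (.tail _ (.tail _ (.tail _ (.tail _ (.tail _ (.tail _ (.tail _ (.tail _ (.tail _ (.tail _ (.tail _ (.tail _ (.tail _ (.tail _ (.tail _ (.tail _ (.tail _ (.tail _ (.tail _ (.tail _ (.tail _ (.tail _ (.tail _ (.tail _ (.tail _ (.tail _ (.tail _ (.tail _ (.tail _ (.tail _ (.tail _ (.tail _ (.tail _ (.tail _ (.tail _ (.tail _ (.tail _ (.tail _ (.head _)))))))))))))))))))))))))))))))))))))))))))))))))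

theorem i89 : M.In lk t89 :=
  u0 H _ (.tail _ (.tail _ (.tail _ (.tail _ (.tail _ (.tail _ (.tail _ (.tail _ (.tail _ (.tail _ (.tail _ (.tail _ (.tail _ (.tail _ (.tail _ (.tail _ (.tail _ (.tail _ (.tail _ (.tail _ (.tail _ (.tail _ (.tail _ (.tail _ (.tail _ (.tail _ (.tail _ (.tail _ (.tail _ (.tail _ (.tail _ (.tail _ (.tail _ (.tail _ (.tail _ (.tail _ (.tail _ (.tail _ (.tail _ (.tail _ (.tail _ (.tail _ (.tail _ (.tail _ (.tail _ (.tail _ (.tail _ (.tail _ (.tail _ (.head _))))))))))))))))))))))))))))))))))))))))))))))))))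

theorem i90 : M.In lk t90 :=
  u0 H _ (.tail _ (.tail _ (.tail _ (.tail _ (.tail _ (.tail _ (.tail _ (.tail _ (.tail _ (.tail _ (.tail _ (.tail _ (.tail _ (.tail _ (.tail _ (.tail _ (.tail _ (.tail _ (.tail _ (.tail _ (.tail _ (.tail _ (.tail _ (.tail _ (.tail _ (.tail _ (.tail _ (.tail _ (.tail _ (.tail _ (.tail _ (.tail _ (.tail _ (.tail _ (.tail _ (.tail _ (.tail _ (.tail _ (.tail _ (.tail _ (.tail _ (.tail _ (.tail _ (.tail _ (.tail _ (.tail _ (.tail _ (.tail _ (.tail _ (.tail _ (.head _)))))))))))))))))))))))))))))))))))))))))))))))))))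

theorem i91 : M.In lk t91 :=
  u0 H _ (.tail _ (.tail _ (.tail _ (.tail _ (.tail _ (.tail _ (.tail _ (.tail _ (.tail _ (.tail _ (.tail _ (.tail _ (.tail _ (.tail _ (.tail _ (.tail _ (.tail _ (.tail _ (.tail _ (.tail _ (.tail _ (.tail _ (.tail _ (.tail _ (.tail _ (.tail _ (.tail _ (.tail _ (.tail _ (.tail _ (.tail _ (.tail _ (.tail _ (.tail _ (.tail _ (.tail _ (.tail _ (.tail _ (.tail _ (.tail _ (.tail _ (.tail _ (.tail _ (.tail _ (.tail _ (.tail _ (.tail _ (.tail _ (.tail _ (.tail _ (.tail _ (.head _))))))))))))))))))))))))))))))))))))))))))))))))))))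

theorem i92 : M.In lk t92 :=
  u0 H _ (.tail _ (.tail _ (.tail _ (.tail _ (.tail _ (.tail _ (.tail _ (.tail _ (.tail _ (.tail _ (.tail _ (.tail _ (.tail _ (.tail _ (.tail _ (.tail _ (.tail _ (.tail _ (.tail _ (.tail _ (.tail _ (.tail _ (.tail _ (.tail _ (.tail _ (.tail _ (.tail _ (.tail _ (.tail _ (.tail _ (.tail _ (.tail _ (.tail _ (.tail _ (.tail _ (.tail _ (.tail _ (.tail _ (.tail _ (.tail _ (.tail _ (.tail _ (.tail _ (.tail _ (.tail _ (.tail _ (.tail _ (.tail _ (.tail _ (.tail _ (.tail _ (.tail _ (.head _)))))))))))))))))))))))))))))))))))))))))))))))))))))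

theorem i93 : M.In lk t93 :=
  u0 H _ (.tail _ (.tail _ (.tail _ (.tail _ (.tail _ (.tail _ (.tail _ (.tail _ (.tail _ (.tail _ (.tail _ (.tail _ (.tail _ (.tail _ (.tail _ (.tail _ (.tail _ (.tail _ (.tail _ (.tail _ (.tail _ (.tail _ (.tail _ (.tail _ (.tail _ (.tail _ (.tail _ (.tail _ (.tail _ (.tail _ (.tail _ (.tail _ (.tail _ (.tail _ (.tail _ (.tail _ (.tail _ (.tail _ (.tail _ (.tail _ (.tail _ (.tail _ (.tail _ (.tail _ (.tail _ (.tail _ (.tail _ (.tail _ (.tail _ (.tail _ (.tail _ (.tail _ (.tail _ (.head _))))))))))))))))))))))))))))))))))))))))))))))))))))))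

theorem i94 : M.In lk t94 :=
  u0 H _ (.tail _ (.tail _ (.tail _ (.tail _ (.tail _ (.tail _ (.tail _ (.tail _ (.tail _ (.tail _ (.tail _ (.tail _ (.tail _ (.tail _ (.tail _ (.tail _ (.tail _ (.tail _ (.tail _ (.tail _ (.tail _ (.tail _ (.tail _ (.tail _ (.tail _ (.tail _ (.tail _ (.tail _ (.tail _ (.tail _ (.tail _ (.tail _ (.tail _ (.tail _ (.tail _ (.tail _ (.tail _ (.tail _ (.tail _ (.tail _ (.tail _ (.tail _ (.tail _ (.tail _ (.tail _ (.tail _ (.tail _ (.tail _ (.tail _ (.tail _ (.tail _ (.tail _ (.tail _ (.tail _ (.head _)))))))))))))))))))))))))))))))))))))))))))))))))))))))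

theorem i95 : M.In lk t95 :=
  u0 H _ (.tail _ (.tail _ (.tail _ (.tail _ (.tail _ (.tail _ (.tail _ (.tail _ (.tail _ (.tail _ (.tail _ (.tail _ (.tail _ (.tail _ (.tail _ (.tail _ (.tail _ (.tail _ (.tail _ (.tail _ (.tail _ (.tail _ (.tail _ (.tail _ (.tail _ (.tail _ (.tail _ (.tail _ (.tail _ (.tail _ (.tail _ (.tail _ (.tail _ (.tail _ (.tail _ (.tail _ (.tail _ (.tail _ (.tail _ (.tail _ (.tail _ (.tail _ (.tail _ (.tail _ (.tail _ (.tail _ (.tail _ (.tail _ (.tail _ (.tail _ (.tail _ (.tail _ (.tail _ (.tail _ (.tail _ (.head _))))))))))))))))))))))))))))))))))))))))))))))))))))))))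

theorem i96 : M.In lk t96 :=
  u0 H _ (.tail _ (.tail _ (.tail _ (.tail _ (.tail _ (.tail _ (.tail _ (.tail _ (.tail _ (.tail _ (.tail _ (.tail _ (.tail _ (.tail _ (.tail _ (.tail _ (.tail _ (.tail _ (.tail _ (.tail _ (.tail _ (.tail _ (.tail _ (.tail _ (.tail _ (.tail _ (.tail _ (.tail _ (.tail _ (.tail _ (.tail _ (.tail _ (.tail _ (.tail _ (.tail _ (.tail _ (.tail _ (.tail _ (.tail _ (.tail _ (.tail _ (.tail _ (.tail _ (.tail _ (.tail _ (.tail _ (.tail _ (.tail _ (.tail _ (.tail _ (.tail _ (.tail _ (.tail _ (.tail _ (.tail _ (.tail _ (.head _)))))))))))))))))))))))))))))))))))))))))))))))))))))))))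

theorem i97 : M.In lk t97 :=
  u0 H _ (.tail _ (.tail _ (.tail _ (.tail _ (.tail _ (.tail _ (.tail _ (.tail _ (.tail _ (.tail _ (.tail _ (.tail _ (.tail _ (.tail _ (.tail _ (.tail _ (.tail _ (.tail _ (.tail _ (.tail _ (.tail _ (.tail _ (.tail _ (.tail _ (.tail _ (.tail _ (.tail _ (.tail _ (.tail _ (.tail _ (.tail _ (.tail _ (.tail _ (.tail _ (.tail _ (.tail _ (.tail _ (.tail _ (.tail _ (.tail _ (.tail _ (.tail _ (.tail _ (.tail _ (.tail _ (.tail _ (.tail _ (.tail _ (.tail _ (.tail _ (.tail _ (.tail _ (.tail _ (.tail _ (.tail _ (.tail _ (.tail _ (.head _))))))))))))))))))))))))))))))))))))))))))))))))))))))))))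

theorem i98 : M.In lk t98 :=
  u0 H _ (.tail _ (.tail _ (.tail _ (.tail _ (.tail _ (.tail _ (.tail _ (.tail _ (.tail _ (.tail _ (.tail _ (.tail _ (.tail _ (.tail _ (.tail _ (.tail _ (.tail _ (.tail _ (.tail _ (.tail _ (.tail _ (.tail _ (.tail _ (.tail _ (.tail _ (.tail _ (.tail _ (.tail _ (.tail _ (.tail _ (.tail _ (.tail _ (.tail _ (.tail _ (.tail _ (.tail _ (.tail _ (.tail _ (.tail _ (.tail _ (.tail _ (.tail _ (.tail _ (.tail _ (.tail _ (.tail _ (.tail _ (.tail _ (.tail _ (.tail _ (.tail _ (.tail _ (.tail _ (.tail _ (.tail _ (.tail _ (.tail _ (.tail _ (.head _)))))))))))))))))))))))))))))))))))))))))))))))))))))))))))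

theorem i99 : M.In lk t99 :=
  u0 H _ (.tail _ (.tail _ (.tail _ (.tail _ (.tail _ (.tail _ (.tail _ (.tail _ (.tail _ (.tail _ (.tail _ (.tail _ (.tail _ (.tail _ (.tail _ (.tail _ (.tail _ (.tail _ (.tail _ (.tail _ (.tail _ (.tail _ (.tail _ (.tail _ (.tail _ (.tail _ (.tail _ (.tail _ (.tail _ (.tail _ (.tail _ (.tail _ (.tail _ (.tail _ (.tail _ (.tail _ (.tail _ (.tail _ (.tail _ (.tail _ (.tail _ (.tail _ (.tail _ (.tail _ (.tail _ (.tail _ (.tail _ (.tail _ (.tail _ (.tail _ (.tail _ (.tail _ (.tail _ (.tail _ (.tail _ (.tail _ (.tail _ (.tail _ (.tail _ (.head _))))))))))))))))))))))))))))))))))))))))))))))))))))))))))))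

theorem i100 : M.In lk t100 :=
  u0 H _ (.tail _ (.tail _ (.tail _ (.tail _ (.tail _ (.tail _ (.tail _ (.tail _ (.tail _ (.tail _ (.tail _ (.tail _ (.tail _ (.tail _ (.tail _ (.tail _ (.tail _ (.tail _ (.tail _ (.tail _ (.tail _ (.tail _ (.tail _ (.tail _ (.tail _ (.tail _ (.tail _ (.tail _ (.tail _ (.tail _ (.tail _ (.tail _ (.tail _ (.tail _ (.tail _ (.tail _ (.tail _ (.tail _ (.tail _ (.tail _ (.tail _ (.tail _ (.tail _ (.tail _ (.tail _ (.tail _ (.tail _ (.tail _ (.tail _ (.tail _ (.tail _ (.tail _ (.tail _ (.tail _ (.tail _ (.tail _ (.tail _ (.tail _ (.tail _ (.tail _ (.head _)))))))))))))))))))))))))))))))))))))))))))))))))))))))))))))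

theorem i101 : M.In lk t101 :=
  u0 H _ (.tail _ (.tail _ (.tail _ (.tail _ (.tail _ (.tail _ (.tail _ (.tail _ (.tail _ (.tail _ (.tail _ (.tail _ (.tail _ (.tail _ (.tail _ (.tail _ (.tail _ (.tail _ (.tail _ (.tail _ (.tail _ (.tail _ (.tail _ (.tail _ (.tail _ (.tail _ (.tail _ (.tail _ (.tail _ (.tail _ (.tail _ (.tail _ (.tail _ (.tail _ (.tail _ (.tail _ (.tail _ (.tail _ (.tail _ (.tail _ (.tail _ (.tail _ (.tail _ (.tail _ (.tail _ (.tail _ (.tail _ (.tail _ (.tail _ (.tail _ (.tail _ (.tail _ (.tail _ (.tail _ (.tail _ (.tail _ (.tail _ (.tail _ (.tail _ (.tail _ (.tail _ (.head _))))))))))))))))))))))))))))))))))))))))))))))))))))))))))))))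

theorem g2p0 : PcG M lk g2_0_10 1024 :=
  pcg_of (hB H) (fa_cons (⟨i40 H, i41 H⟩) (fa_cons (⟨i42 H, i43 H⟩) (fa_cons (⟨i44 H, i45 H⟩) (fa_cons (⟨i46 H, i47 H⟩) (fa_cons (⟨i48 H, i49 H⟩) (fa_cons (⟨i50 H, i51 H⟩) (fa_cons (⟨i52 H, i53 H⟩) (fa_cons (⟨i54 H, i55 H⟩) (fa_cons (⟨i56 H, i57 H⟩) (fa_cons (⟨i58 H, i59 H⟩) fa_nil)))))))))) c4 c5 (E := g2E) rfl c6

theorem g3p0 : PcG M lk g3_0_7 2187 :=
  pcg_of (hB H) (fa_cons (⟨i60 H, i61 H⟩) (fa_cons (⟨i62 H, i63 H⟩) (fa_cons (⟨i64 H, i65 H⟩) (fa_cons (⟨i66 H, i67 H⟩) (fa_cons (⟨i68 H, i69 H⟩) (fa_cons (⟨i70 H, i71 H⟩) (fa_cons (⟨i72 H, i73 H⟩) fa_nil))))))) c7 c8 (E := g3E) rfl c9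

theorem g5p3 : PcG M lk g5_3_6 125 :=
  pcg_of (hB H) (fa_cons (⟨i74 H, i75 H⟩) (fa_cons (⟨i76 H, i77 H⟩) (fa_cons (⟨i78 H, i79 H⟩) fa_nil))) c10 c11 (E := g5E) rfl c12

theorem g7p0 : PcG M lk g7_0_3 42 :=
  pcg_of (hB H) (fa_cons (⟨i80 H, i81 H⟩) (fa_cons (⟨i82 H, i83 H⟩) (fa_cons (⟨i84 H, i85 H⟩) fa_nil))) c13 c14 (E := g7E) rfl c15

theorem g11p0 : PcG M lk g11_0_3 110 :=
  pcg_of (hB H) (fa_cons (⟨i86 H, i87 H⟩) (fa_cons (⟨i88 H, i89 H⟩) (fa_cons (⟨i90 H, i91 H⟩) fa_nil))) c16 c17 (E := g11E) rfl c18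

theorem dn0 : Dn (M.el lk t92) 2 42 :=
  (g7p0 H).dnS (tab M) (nsC_ok (hB H) _) (i92 H) (Upto.zero) c21

theorem ok0 : Rc.Ok ⟨2, 2, 42, 190080⟩ (M.el lk t92) :=
  rc_ok (hB H) (i92 H) (by norm_num) c19 (dn0 H) (by norm_num) (norm_ge (hB H) (hE H) (i92 H) c20)

theorem dn1 : Dn (M.el lk t93) 3 42 :=
  (g7p0 H).dnS (tab M) (nsC_ok (hB H) _) (i93 H) (Upto.zero) c24

theorem ok1 : Rc.Ok ⟨2, 3, 42, 2903040⟩ (M.el lk t93) :=
  rc_ok (hB H) (i93 H) (by norm_num) c22 (dn1 H) (by norm_num) (norm_ge (hB H) (hE H) (i93 H) c23)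

theorem dn2 : Dn (M.el lk t94) 1 125 :=
  (g5p3 H).dnP (A := g5_3_4) (R := g5_4_6) rfl (tab M) (nsC_ok (hB H) _) (i94 H) (Upto.zero) c27

theorem ok2 : Rc.Ok ⟨3, 1, 125, 9072⟩ (M.el lk t94) :=
  rc_ok (hB H) (i94 H) (by norm_num) c25 (dn2 H) (by norm_num) (norm_ge (hB H) (hE H) (i94 H) c26)

theorem dn3 : Dn (M.el lk t95) 1 110 :=
  (g11p0 H).dnP (A := g11_0_2) (R := g11_2_3) rfl (tab M) (nsC_ok (hB H) _) (i95 H) (Upto.zero) c30

theorem ok3 : Rc.Ok ⟨3, 1, 110, 58320⟩ (M.el lk t95) :=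
  rc_ok (hB H) (i95 H) (by norm_num) c28 (dn3 H) (by norm_num) (norm_ge (hB H) (hE H) (i95 H) c29)

theorem dn4 : Dn (M.el lk t96) 2 110 :=
  (g11p0 H).dnS (tab M) (nsC_ok (hB H) _) (i96 H) ((Upto.zero).step (cnt := 58) (m := 58) ⟨_, c33⟩ rfl) c34

theorem ok4 : Rc.Ok ⟨3, 2, 110, 699840⟩ (M.el lk t96) :=
  rc_ok (hB H) (i96 H) (by norm_num) c31 (dn4 H) (by norm_num) (norm_ge (hB H) (hE H) (i96 H) c32)

theorem g3p2 : PcG M lk g3_2_7 243 :=
  (g3p0 H).right (A := g3_0_2) rfl (by decide +kernel)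

theorem dn5 : Dn (M.el lk t97) 1 243 :=
  (g3p2 H).dnP (A := g3_2_4) (R := g3_4_7) rfl (tab M) (nsC_ok (hB H) _) (i97 H) (Upto.zero) c37

theorem ok5 : Rc.Ok ⟨5, 1, 243, 1200⟩ (M.el lk t97) :=
  rc_ok (hB H) (i97 H) (by norm_num) c35 (dn5 H) (by norm_num) (norm_ge (hB H) (hE H) (i97 H) c36)

theorem dn6 : Dn (M.el lk t98) 1 243 :=
  (g3p2 H).dnP (A := g3_2_4) (R := g3_4_7) rfl (tab M) (nsC_ok (hB H) _) (i98 H) (Upto.zero) c40

theorem ok6 : Rc.Ok ⟨5, 1, 243, 6000⟩ (M.el lk t98) :=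
  rc_ok (hB H) (i98 H) (by norm_num) c38 (dn6 H) (by norm_num) (norm_ge (hB H) (hE H) (i98 H) c39)

theorem g3p1 : PcG M lk g3_1_7 729 :=
  (g3p0 H).right (A := g3_0_1) rfl (by decide +kernel)

theorem dn7 : Dn (M.el lk t99) 1 729 :=
  (g3p1 H).dnP (A := g3_1_4) (R := g3_4_7) rfl (tab M) (nsC_ok (hB H) _) (i99 H) (Upto.zero) c43

theorem ok7 : Rc.Ok ⟨7, 1, 729, 252⟩ (M.el lk t99) :=
  rc_ok (hB H) (i99 H) (by norm_num) c41 (dn7 H) (by norm_num) (norm_ge (hB H) (hE H) (i99 H) c42)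

theorem dn8 : Dn (M.el lk t100) 1 729 :=
  (g3p1 H).dnP (A := g3_1_4) (R := g3_4_7) rfl (tab M) (nsC_ok (hB H) _) (i100 H) (Upto.zero) c46

theorem ok8 : Rc.Ok ⟨11, 1, 729, 110⟩ (M.el lk t100) :=
  rc_ok (hB H) (i100 H) (by norm_num) c44 (dn8 H) (by norm_num) (norm_ge (hB H) (hE H) (i100 H) c45)

theorem dn9 : Dn (M.el lk t101) 1 729 :=
  (g3p1 H).dnP (A := g3_1_4) (R := g3_4_7) rfl (tab M) (nsC_ok (hB H) _) (i101 H) (Upto.zero) c49

theorem ok9 : Rc.Ok ⟨23, 1, 729, 253⟩ (M.el lk t101) :=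
  rc_ok (hB H) (i101 H) (by norm_num) c47 (dn9 H) (by norm_num) (norm_ge (hB H) (hE H) (i101 H) c48)

theorem cov2 : Cov M lk 2 r2 :=
  (g2p0 H).cov (hB H) (A := g2_0_0) (R := g2_0_10) (d := 484147125) (a := 1) rfl (by norm_num) (hB0 H).2 (by decide +kernel) (hE H)
    (AllIn.cons (i92 H) (AllIn.cons (i93 H) AllIn.nil)) c50 (cls := cl2) rfl
    (show ∀ c ∈ [0], _ from (fa_cons (⟨_, c51⟩) fa_nil))

theorem cov3 : Cov M lk 3 r3 :=
  (g3p0 H).cov (hB H) (A := g3_0_0) (R := g3_0_7) (d := 226688000) (a := 1) rfl (by norm_num) (hB0 H).2 (by decide +kernel) (hE H)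
    (AllIn.cons (i94 H) (AllIn.cons (i95 H) (AllIn.cons (i96 H) AllIn.nil))) c52 (cls := cl3) rfl
    (show ∀ c ∈ [0], _ from (fa_cons (⟨_, c53⟩) fa_nil))

theorem cov5 : Cov M lk 5 r5 :=
  (g5p3 H).cov (hB H) (A := g5_3_3) (R := g5_3_6) (d := 3966133248) (a := 1) rfl (by norm_num) (hB0 H).2 (by decide +kernel) (hE H)
    (AllIn.cons (i97 H) (AllIn.cons (i98 H) AllIn.nil)) c54 (cls := cl5) rfl
    (show ∀ c ∈ [0], _ from (fa_cons (⟨_, c55⟩) fa_nil))

theorem cov7 : Cov M lk 7 r7 :=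
  cov_of_prime (d := 70823808000) (by norm_num) (ok7 H).ord ((hB0 H).2.trans (by norm_num)) (by norm_num)

theorem cov11 : Cov M lk 11 r11 :=
  cov_of_prime (d := 45069696000) (by norm_num) (ok8 H).ord ((hB0 H).2.trans (by norm_num)) (by norm_num)

theorem cov23 : Cov M lk 23 r23 :=
  cov_of_prime (d := 21555072000) (by norm_num) (ok9 H).ord ((hB0 H).2.trans (by norm_num)) (by norm_num)

theorem sheet : Sheet G 495766656000 [⟨2, 2, 42, 190080⟩, ⟨2, 3, 42, 2903040⟩, ⟨3, 1, 125, 9072⟩, ⟨3, 1, 110, 58320⟩, ⟨3, 2, 110, 699840⟩, ⟨5, 1, 243, 1200⟩, ⟨5, 1, 243, 6000⟩, ⟨7, 1, 729, 252⟩, ⟨11, 1, 729, 110⟩, ⟨23, 1, 729, 253⟩] :=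
  sheet_of (hB0 H).2 (F := [(2, 10), (3, 7), (5, 3), (7, 1), (11, 1), (23, 1)]) (by norm_num) (reps := [t92, t93, t94, t95, t96, t97, t98, t99, t100, t101])
    (.cons (ok0 H) (.cons (ok1 H) (.cons (ok2 H) (.cons (ok3 H) (.cons (ok4 H) (.cons (ok5 H) (.cons (ok6 H) (.cons (ok7 H) (.cons (ok8 H) (.cons (ok9 H) .nil))))))))))
    (fa_cons (pcov (by norm_num) (cov2 H) (fa_cons ((.head _)) (fa_cons ((.tail _ (.head _))) fa_nil))) (fa_cons (pcov (by norm_num) (cov3 H) (fa_cons ((.tail _ (.tail _ (.head _)))) (fa_cons ((.tail _ (.tail _ (.tail _ (.head _))))) (fa_cons ((.tail _ (.tail _ (.tail _ (.tail _ (.head _)))))) fa_nil)))) (fa_cons (pcov (by norm_num) (cov5 H) (fa_cons ((.tail _ (.tail _ (.tail _ (.tail _ (.tail _ (.head _))))))) (fa_cons ((.tail _ (.tail _ (.tail _ (.tail _ (.tail _ (.tail _ (.head _)))))))) fa_nil))) (fa_cons (pcov (by norm_num) (cov7 H) (fa_cons ((.tail _ (.tail _ (.tail _ (.tail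 _ (.tail _ (.tail _ (.tail _ (.head _))))))))) fa_nil)) (fa_cons (pcov (by norm_num) (cov11 H) (fa_cons ((.tail _ (.tail _ (.tail _ (.tail _ (.tail _ (.tail _ (.tail _ (.tail _ (.head _)))))))))) fa_nil)) (fa_cons (pcov (by norm_num) (cov23 H) (fa_cons ((.tail _ (.tail _ (.tail _ (.tail _ (.tail _ (.tail _ (.tail _ (.tail _ (.tail _ (.head _))))))))))) fa_nil)) fa_nil))))))

theorem big : ∀ c : G, (orderOf c).Prime → orderOf c ∣ 1771 → Dn c 1 630 :=
  big_of (F := [(23, 1), (11, 1), (7, 1)]) (by norm_num)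
    (fa_cons (pcov (by norm_num) (cov23 H) (fa_cons ((ok9 H).big (by norm_num) (by norm_num)) fa_nil)) (fa_cons (pcov (by norm_num) (cov11 H) (fa_cons ((ok8 H).big (by norm_num) (by norm_num)) fa_nil)) (fa_cons (pcov (by norm_num) (cov7 H) (fa_cons ((ok7 H).big (by norm_num) (by norm_num)) fa_nil)) fa_nil)))

theorem row [IsSimpleGroup G] (hK : ¬ IsMulCommutative G) (ho : Nat.card (Out G) = 1) : Row G :=
  (sheet H).row_one hK ho (by norm_num) (hB0 H).2 (a := 279936000) (by norm_num) (by norm_num) (by norm_num) (big H)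
    (by simp only [List.map, List.sum_cons, List.sum_nil, Rc.term]; norm_num)

end Cfsg.Agent.SB.SporF.Co3
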